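import Groth.Agent.FittX.Principal
import Groth.Prelude.Def_BlowUp2
import Groth.Prelude.Def_FlatCA
import Mathlib.RingTheory.Localization.Module
import Mathlib.LinearAlgebra.TensorProduct.RightExactness

/-!
Strict transforms along a blow-up of a Fitting ideal are locally free.
-/

set_option autoImplicit false
set_option linter.style.haveILetI false

universe u

open Module TensorProduct

namespace Groth.Agent.FittStrict

theorem mem_powTorsion {S : Type u} [CommRing S] {x : S} {M : Type u} [AddCommGroup M] [Module S M] {y : M} :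
    y ∈ FlatCA.powTorsion S x M ↔ ∃ n : ℕ, x ^ n • y = 0 := by
  rw [FlatCA.powTorsion, Submodule.mem_iSup_of_directed]
  · simp [Submodule.mem_torsionBy_iff]
  · refine Monotone.directed_le fun m n hmn y hy => ?_
    rw [Submodule.mem_torsionBy_iff] at hy ⊢
    obtain ⟨c, rfl⟩ := le_iff_exists_add.1 hmn
    rw [pow_add, mul_comm, mul_smul, hy, smul_zero]

variable {S : Type u} [CommRing S] {N : Type u} [AddCommGroup N] [Module S N] [Module.Finite S N] {k : ℕ} {a w : S}

theorem fitting_eq_top (hwa : w ∣ a) (hk : Fitt.ideal S N k = Ideal.span {w}) :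
    Fitt.ideal S (N ⧸ FlatCA.powTorsion S a N) k = ⊤ := by
  by_contra hne
  obtain ⟨p, hp, hle⟩ := Ideal.exists_le_maximal _ hne
  haveI := hp.isPrime
  refine (FittX.not_le_iff_atPrime (N ⧸ FlatCA.powTorsion S a N) k p).2 ?_ hle
  let Sp := Localization.AtPrime p
  let Np := LocalizedModule p.primeCompl N
  haveI : Module.Finite Sp Np :=
    Module.Finite.of_isLocalizedModule p.primeCompl (LocalizedModule.mkLinearMap p.primeCompl N)
  have hkp : Fitt.ideal Sp Np k = Ideal.span {algebraMap S Sp w} := by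
    rw [FittX.ideal_baseChange (FittX.isBaseChange_mkLinearMap N p.primeCompl) k, hk, Ideal.map_span,
      Set.image_singleton]
  obtain ⟨g, hg⟩ := FittX.exists_gen_quotient k (algebraMap S Sp w) hkp
  let F : Np →ₗ[Sp] LocalizedModule p.primeCompl (N ⧸ FlatCA.powTorsion S a N) :=
    LocalizedModule.map p.primeCompl (FlatCA.powTorsion S a N).mkQ
  have hF : Function.Surjective F :=
    IsLocalizedModule.map_surjective p.primeCompl (LocalizedModule.mkLinearMap _ _)
      (LocalizedModule.mkLinearMap _ _) _ (Submodule.mkQ_surjective _)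
  have hker : LinearMap.ker (algebraMap S Sp w • (LinearMap.id : Np →ₗ[Sp] Np)) ≤ LinearMap.ker F := by
    intro z hz
    rw [LinearMap.mem_ker, LinearMap.smul_apply, LinearMap.id_apply, algebraMap_smul] at hz
    obtain ⟨⟨m, s⟩, hms⟩ := IsLocalizedModule.mk'_surjective p.primeCompl
      (LocalizedModule.mkLinearMap p.primeCompl N) z
    simp only [Function.uncurry] at hms
    subst hms
    rw [← IsLocalizedModule.mk'_smul, IsLocalizedModule.mk'_eq_zero, IsLocalizedModule.eq_zero_iff p.primeCompl] at hz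
    obtain ⟨c, hc⟩ := hz
    have hmem : ((c : S) • m) ∈ FlatCA.powTorsion S a N := by
      obtain ⟨b, rfl⟩ := hwa
      refine mem_powTorsion.2 ⟨1, ?_⟩
      rw [pow_one, mul_comm, mul_smul, smul_comm w (c : S) m]
      rw [show (c : S) • w • m = 0 from hc, smul_zero]
    rw [LinearMap.mem_ker, ← IsLocalizedModule.mk_eq_mk', LocalizedModule.map_mk, IsLocalizedModule.mk_eq_mk',
      IsLocalizedModule.mk'_eq_zero, IsLocalizedModule.eq_zero_iff p.primeCompl]
    refine ⟨c, ?_⟩
    show (c : S) • (FlatCA.powTorsion S a N).mkQ m = 0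
    rw [← map_smul]
    exact (Submodule.Quotient.mk_eq_zero _).2 hmem
  refine ⟨fun i => Submodule.liftQ _ F hker (g i), ?_⟩
  rw [show (fun i => Submodule.liftQ _ F hker (g i)) = Submodule.liftQ _ F hker ∘ g from rfl, Set.range_comp,
    Submodule.span_image, hg, Submodule.map_top, Submodule.range_liftQ, LinearMap.range_eq_top.2 hF]

theorem fitting_eq_bot (ha : a ∈ nonZeroDivisors S) {j : ℕ}
    (hj : ∀ x ∈ Fitt.ideal S N j, ∃ n : ℕ, a ^ n * x = 0) :
    Fitt.ideal S (N ⧸ FlatCA.powTorsion S a N) j = ⊥ := by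
  rw [eq_bot_iff]
  intro z hz
  let Na := LocalizedModule (Submonoid.powers a) N
  let Qa := LocalizedModule (Submonoid.powers a) (N ⧸ FlatCA.powTorsion S a N)
  let F : Na →ₗ[Localization.Away a] Qa := LocalizedModule.map (Submonoid.powers a) (FlatCA.powTorsion S a N).mkQ
  have hF : Function.Bijective F := by
    refine ⟨(injective_iff_map_eq_zero F).2 fun z hz => ?_,
      IsLocalizedModule.map_surjective _ (LocalizedModule.mkLinearMap _ _) (LocalizedModule.mkLinearMap _ _) _
        (Submodule.mkQ_surjective _)⟩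
    obtain ⟨⟨m, s⟩, hms⟩ := IsLocalizedModule.mk'_surjective (Submonoid.powers a)
      (LocalizedModule.mkLinearMap (Submonoid.powers a) N) z
    simp only [Function.uncurry] at hms
    subst hms
    rw [← IsLocalizedModule.mk_eq_mk', LocalizedModule.map_mk, IsLocalizedModule.mk_eq_mk',
      IsLocalizedModule.mk'_eq_zero, IsLocalizedModule.eq_zero_iff (Submonoid.powers a)] at hz
    obtain ⟨⟨_, l, rfl⟩, hc⟩ := hz
    change a ^ l • _ = (0 : N ⧸ FlatCA.powTorsion S a N) at hc
    rw [← map_smul, Submodule.mkQ_apply, Submodule.Quotient.mk_eq_zero, mem_powTorsion] at hc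
    obtain ⟨n, hn⟩ := hc
    rw [IsLocalizedModule.mk'_eq_zero, IsLocalizedModule.eq_zero_iff (Submonoid.powers a)]
    exact ⟨⟨a ^ (n + l), n + l, rfl⟩, show a ^ (n + l) • m = 0 by rw [pow_add, mul_smul]; exact hn⟩
  haveI : Module.Finite (Localization.Away a) Na :=
    Module.Finite.of_isLocalizedModule (Submonoid.powers a) (LocalizedModule.mkLinearMap _ N)
  haveI : Module.Finite (Localization.Away a) Qa :=
    Module.Finite.of_isLocalizedModule (Submonoid.powers a) (LocalizedModule.mkLinearMap _ (N ⧸ _))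
  have h1 : algebraMap S (Localization.Away a) z ∈ Fitt.ideal (Localization.Away a) Qa j := by
    rw [FittX.ideal_map_away j a]
    exact Ideal.mem_map_of_mem _ hz
  rw [← FittX.ideal_congr (LinearEquiv.ofBijective F hF) j, FittX.ideal_map_away j a] at h1
  have h0 : (Fitt.ideal S N j).map (algebraMap S (Localization.Away a)) = ⊥ := by
    rw [Ideal.map_eq_bot_iff_le_ker]
    intro x hx
    obtain ⟨n, hn⟩ := hj x hx
    rw [RingHom.mem_ker, IsLocalization.map_eq_zero_iff (Submonoid.powers a)]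
    exact ⟨⟨a ^ n, n, rfl⟩, hn⟩
  rw [h0, Ideal.mem_bot, IsLocalization.map_eq_zero_iff (Submonoid.powers a)] at h1
  obtain ⟨⟨_, n, rfl⟩, hn⟩ := h1
  rw [Ideal.mem_bot]
  exact (mul_left_mem_nonZeroDivisors_eq_zero_iff (pow_mem ha n)).1 hn

theorem locallyFree (ha : a ∈ nonZeroDivisors S) (hwa : w ∣ a) (hk : Fitt.ideal S N k = Ideal.span {w})
    (hj : ∀ j < k, ∀ x ∈ Fitt.ideal S N j, ∃ n : ℕ, a ^ n * x = 0) :
    ∀ (p' : Ideal S) [p'.IsPrime], ∃ g : S, g ∉ p' ∧
      Module.Free (Localization.Away g) (LocalizedModule (Submonoid.powers g) (N ⧸ FlatCA.powTorsion S a N)) ∧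
      Module.finrank (Localization.Away g) (LocalizedModule (Submonoid.powers g) (N ⧸ FlatCA.powTorsion S a N)) = k :=
  (FittX.locallyFree_iff k).2 ⟨fun j hjk => fitting_eq_bot ha (hj j hjk), fun j hjk =>
    top_le_iff.1 ((fitting_eq_top hwa hk).ge.trans (FittX.ideal_mono hjk))⟩

section BlowUp

variable {R : Type u} [CommRing R] {I : Ideal R} {a : R} {R₁ : Type u} [CommRing R₁] [Algebra R R₁]

theorem mem_nonZeroDivisors_of_equiv (e : R₁ ≃ₐ[R] ↥(BlowUp.affineAlgebra R I a)) :
    algebraMap R R₁ a ∈ nonZeroDivisors R₁ := by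
  refine mem_nonZeroDivisors_iff_right.2 fun x hx => e.injective ?_
  have h := congrArg (fun y => ((e y : ↥(BlowUp.affineAlgebra R I a)) : Localization.Away a)) hx
  simp only [map_mul, MulMemClass.coe_mul, map_zero, ZeroMemClass.coe_zero, AlgEquiv.commutes,
    Subalgebra.coe_algebraMap] at h
  rw [map_zero]
  exact Subtype.ext ((IsLocalization.Away.algebraMap_isUnit (S := Localization.Away a) a).mul_left_eq_zero.1 h)

theorem map_eq_span_of_equiv (ha : a ∈ I) (e : R₁ ≃ₐ[R] ↥(BlowUp.affineAlgebra R I a)) :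
    I.map (algebraMap R R₁) = Ideal.span {algebraMap R R₁ a} := by
  refine le_antisymm (Ideal.map_le_iff_le_comap.2 fun x hx => ?_)
    ((Ideal.span_singleton_le_iff_mem _).2 (Ideal.mem_map_of_mem _ ha))
  rw [Ideal.mem_comap, Ideal.mem_span_singleton']
  refine ⟨e.symm ⟨IsLocalization.mk' (Localization.Away a) x ⟨a, Submonoid.mem_powers a⟩,
    Algebra.subset_adjoin ⟨x, hx, rfl⟩⟩, e.injective ?_⟩
  rw [map_mul, AlgEquiv.apply_symm_apply, AlgEquiv.commutes, AlgEquiv.commutes]
  exact Subtype.ext (IsLocalization.mk'_spec (Localization.Away a) x ⟨a, Submonoid.mem_powers a⟩)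

end BlowUp

theorem exists_pow_mul_eq_zero {R : Type u} [CommRing R] (a x : R)
    (h : ∀ (p : Ideal R) [p.IsPrime], a ∉ p → ∃ c, c ∉ p ∧ c * x = 0) : ∃ n : ℕ, a ^ n * x = 0 := by
  let J : Ideal R := (Submodule.span R ({x} : Set R)).annihilator
  suffices h' : a ∈ J.radical by
    obtain ⟨n, hn⟩ := h'
    exact ⟨n, by simpa [J, Submodule.mem_annihilator_span_singleton] using hn⟩
  rw [Ideal.radical_eq_sInf, Submodule.mem_sInf]
  rintro p ⟨hJp, hp⟩
  by_contra hap
  haveI := hp
  obtain ⟨c, hc, hcx⟩ := h p hap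
  exact hc (hJp (by simpa [J, Submodule.mem_annihilator_span_singleton] using hcx))

section BaseChange

variable {R : Type u} [CommRing R] (M : Type u) [AddCommGroup M] [Module R M] [Module.Finite R M]
  (R₁ : Type u) [CommRing R₁] [Algebra R R₁]

theorem ideal_tensor (k : ℕ) :
    Fitt.ideal R₁ (R₁ ⊗[R] M) k = (Fitt.ideal R M k).map (algebraMap R R₁) :=
  FittX.ideal_baseChange (TensorProduct.isBaseChange R M R₁) k

theorem killed_of_map {a : R} {j : ℕ} (hj : ∀ x ∈ Fitt.ideal R M j, ∃ n : ℕ, a ^ n * x = 0) :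
    ∀ x ∈ Fitt.ideal R₁ (R₁ ⊗[R] M) j, ∃ n : ℕ, algebraMap R R₁ a ^ n * x = 0 := by
  intro x hx
  rw [ideal_tensor, Ideal.map] at hx
  induction hx using Submodule.span_induction with
  | mem x hx =>
    obtain ⟨y, hy, rfl⟩ := hx
    obtain ⟨n, hn⟩ := hj y hy
    exact ⟨n, by rw [← map_pow, ← map_mul, hn, map_zero]⟩
  | zero => exact ⟨0, by simp⟩
  | add x y _ _ hx hy =>
    obtain ⟨n, hn⟩ := hx
    obtain ⟨m, hm⟩ := hy
    refine ⟨n + m, ?_⟩
    rw [mul_add, pow_add, mul_assoc, mul_assoc, hm, mul_zero, add_zero, mul_left_comm, hn, mul_zero]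
  | smul c x _ hx =>
    obtain ⟨n, hn⟩ := hx
    exact ⟨n, by rw [smul_eq_mul, mul_left_comm, hn, mul_zero]⟩

end BaseChange

section Approx

variable {R : Type u} [CommRing R] (M : Type u) [AddCommGroup M] [Module R M] [Module.Finite R M]

/-- A finitely presented cover which is an isomorphism over `D(f)`. -/
theorem exists_cover (f : R) (r : ℕ)
    (hf : ∀ (p : Ideal R) [p.IsPrime], f ∉ p → ∃ g : R, g ∉ p ∧ g ∈ (Ideal.span {f}).radical ∧
      Module.Free (Localization.Away g) (LocalizedModule (Submonoid.powers g) M) ∧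
        Module.finrank (Localization.Away g) (LocalizedModule (Submonoid.powers g) M) = r) :
    ∃ (M₀ : Type u) (_ : AddCommGroup M₀) (_ : Module R M₀), Module.FinitePresentation R M₀ ∧
      ∃ π : M₀ →ₗ[R] M, Function.Surjective π ∧ (∀ y, π y = 0 → ∃ N : ℕ, f ^ N • y = 0) ∧
        ∀ (p : Ideal R) [p.IsPrime], f ∉ p → ∃ g : R, g ∉ p ∧
          Nonempty (Basis (Fin r) (Localization.Away g) (LocalizedModule (Submonoid.powers g) M₀)) := by
  classical
  obtain ⟨n, x, hx⟩ := FittX.exists_gen R M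
  let q : (Fin n → R) →ₗ[R] M := Fintype.linearCombination R x
  have hq : Function.Surjective q := by
    rw [← LinearMap.range_eq_top]
    exact (Fintype.range_linearCombination R x).trans hx
  let G : Set R := {g | g ∈ (Ideal.span {f}).radical ∧
    Module.Free (Localization.Away g) (LocalizedModule (Submonoid.powers g) M) ∧
      ∃ K₁ : Finset (Fin n → R), (K₁ : Set (Fin n → R)) ⊆ LinearMap.ker q ∧
        ∀ y ∈ LinearMap.ker q, ∃ N : ℕ, g ^ N • y ∈ Submodule.span R (K₁ : Set (Fin n → R))}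
  have hG : f ∈ (Ideal.span G).radical := by
    rw [Ideal.radical_eq_sInf, Submodule.mem_sInf]
    rintro p ⟨hGp, hp⟩
    by_contra hfp
    haveI := hp
    obtain ⟨g, hgp, hgf, hfree, -⟩ := hf p hfp
    refine hgp (hGp (Ideal.subset_span ⟨hgf, hfree, ?_⟩))
    let Sg := Localization.Away g
    let φ := LocalizedModule.mkLinearMap (Submonoid.powers g) (Fin n → R)
    let qg : LocalizedModule (Submonoid.powers g) (Fin n → R) →ₗ[Sg] LocalizedModule (Submonoid.powers g) M :=
      LocalizedModule.map (Submonoid.powers g) q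
    have hqg : Function.Surjective qg :=
      IsLocalizedModule.map_surjective _ (LocalizedModule.mkLinearMap _ _) (LocalizedModule.mkLinearMap _ _) q hq
    haveI : Module.Finite Sg (LocalizedModule (Submonoid.powers g) (Fin n → R)) :=
      Module.Finite.of_isLocalizedModule (Submonoid.powers g) φ
    haveI : Module.Finite Sg (LocalizedModule (Submonoid.powers g) M) :=
      Module.Finite.of_isLocalizedModule (Submonoid.powers g) (LocalizedModule.mkLinearMap (Submonoid.powers g) M)
    haveI : Module.FinitePresentation Sg (LocalizedModule (Submonoid.powers g) M) :=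
      Module.finitePresentation_of_projective Sg _
    obtain ⟨T, hT⟩ := Module.FinitePresentation.fg_ker qg hqg
    have hrep : ∀ t ∈ T, ∃ (y : Fin n → R) (s : Submonoid.powers g),
        y ∈ LinearMap.ker q ∧ (s : R) • t = φ y := by
      intro t ht
      have ht0 : qg t = 0 := (hT ▸ Submodule.subset_span ht : t ∈ LinearMap.ker qg)
      obtain ⟨⟨y, s⟩, hys⟩ := IsLocalizedModule.surj (Submonoid.powers g) φ t
      have : qg (φ y) = 0 := by
        rw [← hys, LinearMap.map_smul_of_tower, ht0, smul_zero]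
      rw [LocalizedModule.mkLinearMap_apply, LocalizedModule.map_mk, IsLocalizedModule.mk_eq_mk',
        IsLocalizedModule.mk'_eq_zero, IsLocalizedModule.eq_zero_iff (Submonoid.powers g)] at this
      obtain ⟨c, hc⟩ := this
      refine ⟨(c : R) • y, c * s, ?_, ?_⟩
      · rw [LinearMap.mem_ker, map_smul]; exact hc
      · rw [map_smul, ← hys, Submonoid.smul_def, Submonoid.coe_mul, mul_smul]
    choose! Y sT hY hsT using hrep
    refine ⟨T.image Y, ?_, fun y hy => ?_⟩
    · intro z hz
      obtain ⟨t, ht, rfl⟩ := Finset.mem_image.1 hz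
      exact hY t ht
    · have hφy : φ y ∈ LinearMap.ker qg := by
        rw [LinearMap.mem_ker, LocalizedModule.mkLinearMap_apply, LocalizedModule.map_mk,
          LinearMap.mem_ker.1 hy, LocalizedModule.zero_mk]
      rw [← hT] at hφy
      suffices h : φ y ∈ ((Submodule.span R ((T.image Y : Finset (Fin n → R)) : Set (Fin n → R))).localized'
          Sg (Submonoid.powers g) φ) by
        obtain ⟨z, hz, s, hzs⟩ := h
        rw [IsLocalizedModule.mk'_eq_iff, Submonoid.smul_def, ← map_smul,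
          IsLocalizedModule.eq_iff_exists (Submonoid.powers g)] at hzs
        obtain ⟨⟨_, l, rfl⟩, hl⟩ := hzs
        obtain ⟨_, m, rfl⟩ := s
        refine ⟨l + m, ?_⟩
        rw [pow_add, mul_smul]
        have hl' : g ^ l • g ^ m • y = g ^ l • z := hl.symm
        rw [hl']
        exact Submodule.smul_mem _ _ hz
      refine Submodule.span_le.2 (fun t ht => ?_) hφy
      exact ⟨Y t, Submodule.subset_span (Finset.mem_image_of_mem Y ht), sT t, by
        rw [IsLocalizedModule.mk'_eq_iff, Submonoid.smul_def]; exact (hsT t ht).symm⟩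
  obtain ⟨Nf, hNf⟩ := hG
  obtain ⟨s, hsG, hfs⟩ := Submodule.mem_span_finite_of_mem_span hNf
  choose! K₁ hK₁ hspan using fun g (hg : g ∈ G) => hg.2.2
  let K₀ : Submodule R (Fin n → R) := Submodule.span R ((s.biUnion K₁ : Finset (Fin n → R)) : Set (Fin n → R))
  have hK₀ : K₀ ≤ LinearMap.ker q := by
    refine Submodule.span_le.2 fun z hz => ?_
    obtain ⟨g, hg, hz⟩ := Finset.mem_biUnion.1 hz
    exact hK₁ g (hsG hg) hz
  have hkill : ∀ y ∈ LinearMap.ker q, ∃ N : ℕ, f ^ N • y ∈ K₀ := by
    intro y hy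
    let J : Ideal R := K₀.colon {y}
    have : f ∈ J.radical := by
      rw [Ideal.radical_eq_sInf, Submodule.mem_sInf]
      rintro p ⟨hJp, hp⟩
      haveI := hp
      by_contra hfp
      have : ¬ (s : Set R) ⊆ p := fun hsp => hfp (hp.mem_of_pow_mem Nf (Submodule.span_le.2 hsp hfs))
      obtain ⟨g, hgs, hgp⟩ := Set.not_subset.1 this
      obtain ⟨N, hN⟩ := hspan g (hsG hgs) y hy
      refine hgp (hp.mem_of_pow_mem N (hJp ?_))
      rw [Submodule.mem_colon_singleton]
      exact Submodule.span_mono (fun z hz => Finset.mem_biUnion.2 ⟨g, hgs, hz⟩) hN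
    obtain ⟨N, hN⟩ := this
    exact ⟨N, Submodule.mem_colon_singleton.1 hN⟩
  let π : ((Fin n → R) ⧸ K₀) →ₗ[R] M := K₀.liftQ q hK₀
  have hπ : Function.Surjective π := fun y => by
    obtain ⟨z, rfl⟩ := hq y
    exact ⟨K₀.mkQ z, rfl⟩
  have hπ0 : ∀ y, π y = 0 → ∃ N : ℕ, f ^ N • y = 0 := fun y hy => by
    obtain ⟨z, rfl⟩ := Submodule.Quotient.mk_surjective _ y
    obtain ⟨N, hN⟩ := hkill z hy
    exact ⟨N, by rw [← Submodule.Quotient.mk_smul, Submodule.Quotient.mk_eq_zero]; exact hN⟩
  refine ⟨_, inferInstance, inferInstance,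
    Module.finitePresentation_of_surjective K₀.mkQ (Submodule.mkQ_surjective _)
      (by rw [Submodule.ker_mkQ]; exact ⟨_, rfl⟩), π, hπ, hπ0, fun p _ hfp => ?_⟩
  obtain ⟨g, hgp, hgf, hfree, hrank⟩ := hf p hfp
  refine ⟨g, hgp, ?_⟩
  let πg : LocalizedModule (Submonoid.powers g) ((Fin n → R) ⧸ K₀) →ₗ[Localization.Away g]
      LocalizedModule (Submonoid.powers g) M := LocalizedModule.map (Submonoid.powers g) π
  have hπg : Function.Bijective πg := by
    refine ⟨(injective_iff_map_eq_zero πg).2 fun z hz => ?_,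
      IsLocalizedModule.map_surjective _ (LocalizedModule.mkLinearMap _ _) (LocalizedModule.mkLinearMap _ _) π hπ⟩
    obtain ⟨⟨m, t⟩, hms⟩ := IsLocalizedModule.mk'_surjective (Submonoid.powers g)
      (LocalizedModule.mkLinearMap (Submonoid.powers g) _) z
    simp only [Function.uncurry] at hms
    subst hms
    rw [← IsLocalizedModule.mk_eq_mk', LocalizedModule.map_mk, IsLocalizedModule.mk_eq_mk',
      IsLocalizedModule.mk'_eq_zero, IsLocalizedModule.eq_zero_iff (Submonoid.powers g)] at hz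
    obtain ⟨⟨_, l, rfl⟩, hc⟩ := hz
    change g ^ l • π m = 0 at hc
    rw [← map_smul] at hc
    obtain ⟨N, hN⟩ := hπ0 _ hc
    obtain ⟨e, he⟩ := hgf
    obtain ⟨c, hc⟩ := Ideal.mem_span_singleton'.1 he
    rw [IsLocalizedModule.mk'_eq_zero, IsLocalizedModule.eq_zero_iff (Submonoid.powers g)]
    refine ⟨⟨g ^ (e * N + l), e * N + l, rfl⟩, ?_⟩
    show g ^ (e * N + l) • m = 0
    rw [pow_add, mul_smul, pow_mul, ← hc, mul_pow, mul_smul, hN, smul_zero]
  haveI : Module.Finite (Localization.Away g) (LocalizedModule (Submonoid.powers g) M) :=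
    Module.Finite.of_isLocalizedModule (Submonoid.powers g) (LocalizedModule.mkLinearMap (Submonoid.powers g) M)
  haveI : Nontrivial (Localization.Away g) :=
    (IsLocalization.isPrime_of_isPrime_disjoint (Submonoid.powers g) (Localization.Away g) p
      ‹_› (by rwa [Ideal.disjoint_powers_iff_notMem _ (Ideal.IsPrime.isRadical ‹_›)])).ne_top
        |> fun h => (not_subsingleton_iff_nontrivial.1 fun _ => h (Subsingleton.elim _ _))
  haveI := hfree
  exact ⟨((Module.finBasis (Localization.Away g) (LocalizedModule (Submonoid.powers g) M)).reindex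
    (finCongr hrank)).map (LinearEquiv.ofBijective πg hπg).symm⟩

theorem fitting_not_le_and_killed {f : R} {r : ℕ}
    (hb : ∀ (p : Ideal R) [p.IsPrime], f ∉ p → ∃ g : R, g ∉ p ∧
      Nonempty (Basis (Fin r) (Localization.Away g) (LocalizedModule (Submonoid.powers g) M))) :
    (∀ (p : Ideal R) [p.IsPrime], f ∉ p → ¬ Fitt.ideal R M r ≤ p) ∧
      ∀ j < r, ∀ x ∈ Fitt.ideal R M j, ∃ N : ℕ, f ^ N * x = 0 := by
  refine ⟨fun p _ hfp => ?_, fun j hj x hx => exists_pow_mul_eq_zero f x fun p _ hfp => ?_⟩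
  · obtain ⟨g, hg, ⟨b⟩⟩ := hb p hfp
    exact (FittX.not_le_iff_away M r p).2 ⟨g, hg, b, b.span_eq⟩
  · obtain ⟨g, hg, ⟨b⟩⟩ := hb p hfp
    haveI : Module.Finite (Localization.Away g) (LocalizedModule (Submonoid.powers g) M) :=
      Module.Finite.of_isLocalizedModule (Submonoid.powers g) (LocalizedModule.mkLinearMap (Submonoid.powers g) M)
    have h0 : algebraMap R (Localization.Away g) x = 0 := by
      rw [← Ideal.mem_bot, ← FittX.ideal_eq_bot_of_free _ j r b hj, FittX.ideal_map_away j g]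
      exact Ideal.mem_map_of_mem _ hx
    obtain ⟨⟨_, l, rfl⟩, hl⟩ := (IsLocalization.map_eq_zero_iff (Submonoid.powers g) _ x).1 h0
    exact ⟨g ^ l, fun h => hg ((‹p.IsPrime›).mem_of_pow_mem l h), hl⟩

end Approx

section Ker

variable {R : Type u} [CommRing R] {R₁ : Type u} [CommRing R₁] [Algebra R R₁]
  {M M₀ : Type u} [AddCommGroup M] [Module R M] [AddCommGroup M₀] [Module R M₀]

theorem mem_powTorsion_of_baseChange_eq_zero {f a : R} (hfa : f ∣ a) {π : M₀ →ₗ[R] M} (hπ : Function.Surjective π)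
    (hπ0 : ∀ y, π y = 0 → ∃ N : ℕ, f ^ N • y = 0) {z : R₁ ⊗[R] M₀} (hz : π.baseChange R₁ z = 0) :
    z ∈ FlatCA.powTorsion R₁ (algebraMap R R₁ a) (R₁ ⊗[R] M₀) := by
  have hex := lTensor_exact R₁ (LinearMap.exact_subtype_ker_map π) hπ
  obtain ⟨y, rfl⟩ := (hex z).1 hz
  clear hz
  induction y using TensorProduct.induction_on with
  | zero => rw [map_zero]; exact zero_mem _
  | add y₁ y₂ h₁ h₂ => rw [map_add]; exact add_mem h₁ h₂
  | tmul c y =>
    obtain ⟨N, hN⟩ := hπ0 y (LinearMap.mem_ker.1 y.2)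
    obtain ⟨d, rfl⟩ := hfa
    refine mem_powTorsion.2 ⟨N, ?_⟩
    rw [LinearMap.lTensor_tmul, ← map_pow, algebraMap_smul, Submodule.subtype_apply, mul_pow, mul_comm (f ^ N),
      mul_smul, ← TensorProduct.tmul_smul, hN, TensorProduct.tmul_zero, smul_zero]

end Ker

end Groth.Agent.FittStrict
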